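import Groth.Agent.CAlgH3.PSheafBound
import Groth.Agent.CAlgH3.GrMinimal
import Groth.Agent.CAlgH3.PdPolynomial
import Groth.Agent.CAlgH3.PKoszul
import Groth.Agent.Resolution28.Basic
import Groth.Agent.KZeroLib.DerivedEuler
import Groth.Agent.Coherent.Devissage
import Groth.Agent.SplitP.Basic
import Groth.Agent.EulerLib.Additive
import Groth.Prelude.Def_KZero

/-!
# `K₀` of coherent sheaves on projective space over a field
-/

set_option autoImplicit false
set_option linter.unusedSectionVars false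
set_option linter.style.haveILetI false
set_option backward.isDefEq.respectTransparency.types false

universe u v

open DirectSum AlgebraicGeometry CategoryTheory CategoryTheory.Limits MvPolynomial
open Groth.Agent.GrLib Groth.Agent.Coherent Groth.Agent.EulerLib
open Groth.Agent.CAlgH3 Groth.Agent.CAlgH3.PTilde Groth.Agent.CAlgH3.PRing Groth.Agent.CAlgH3.PFree

noncomputable section

namespace Groth.Agent.KPn28

section Alt

variable {A : Type v} [Category.{u} A] [Abelian A] {P : ObjectProperty A}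

theorem sum_alt_eq_zero [P.IsClosedUnderIsomorphisms] [P.ContainsZero]
    (hker : ∀ {U V : A} (g : U ⟶ V), P U → P V → P (kernel g)) :
    ∀ (N : ℕ) (D : ℕ → A) (f : ∀ p, D (p + 1) ⟶ D p) (w : ∀ p, f (p + 1) ≫ f p = 0),
      (∀ p, (ShortComplex.mk (f (p + 1)) (f p) (w p)).Exact) → Epi (f 0) → (∀ p, P (D p)) →
      (∀ p, N < p → IsZero (D p)) →
      ∑ p ∈ Finset.range (N + 1), ((-1 : ℤ) ^ p) • KZero.clSub P (D p) = 0 := by
  intro N
  induction N with
  | zero =>
    intro D f w _ h0 _ hz
    haveI := h0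
    have hD0 : IsZero (D 0) := IsZero.of_epi (f 0) (hz 1 one_pos)
    rw [Finset.sum_range_one, KZeroLib.clSub_isZero hD0, smul_zero]
  | succ N ih =>
    intro D f w hex h0 hP hz
    haveI := h0
    let D' : ℕ → A := fun p => match p with
      | 0 => kernel (f 0)
      | q + 1 => D (q + 2)
    let f' : ∀ p, D' (p + 1) ⟶ D' p := fun p => match p with
      | 0 => kernel.lift (f 0) (f 1) (w 0)
      | q + 1 => f (q + 2)
    have w' : ∀ p, f' (p + 1) ≫ f' p = 0 := fun p => match p with
      | 0 => (cancel_mono (kernel.ι (f 0))).1 (by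
          show (f 2 ≫ kernel.lift (f 0) (f 1) (w 0)) ≫ _ = _
          rw [Category.assoc, kernel.lift_ι, zero_comp]; exact w 1)
      | q + 1 => w (q + 2)
    have hex' : ∀ p, (ShortComplex.mk (f' (p + 1)) (f' p) (w' p)).Exact := fun p => match p with
      | 0 => by
          let φ : ShortComplex.mk (f' 1) (f' 0) (w' 0) ⟶ ShortComplex.mk (f 2) (f 1) (w 1) :=
            { τ₁ := 𝟙 _, τ₂ := 𝟙 _, τ₃ := kernel.ι (f 0)
              comm₁₂ := by simp [f']
              comm₂₃ := by simp [f'] }
          haveI : Epi φ.τ₁ := inferInstanceAs (Epi (𝟙 _))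
          haveI : IsIso φ.τ₂ := inferInstanceAs (IsIso (𝟙 _))
          haveI : Mono φ.τ₃ := inferInstanceAs (Mono (kernel.ι (f 0)))
          exact (ShortComplex.exact_iff_of_epi_of_isIso_of_mono φ).2 (hex 1)
      | q + 1 => hex (q + 2)
    have h0' : Epi (f' 0) := (ShortComplex.exact_iff_epi_kernel_lift _).1 (hex 0)
    have hP' : ∀ p, P (D' p) := fun p => match p with
      | 0 => hker _ (hP 1) (hP 0)
      | q + 1 => hP (q + 2)
    have hz' : ∀ p, N < p → IsZero (D' p) := fun p hp => match p, hp with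
      | q + 1, hp => hz (q + 2) (by omega)
    have hS : (ShortComplex.mk (kernel.ι (f 0)) (f 0) (kernel.condition _)).ShortExact :=
      ShortComplex.ShortExact.mk' (ShortComplex.exact_of_f_is_kernel _ (kernelIsKernel _)) inferInstance h0
    have h1 : KZero.clSub P (D 1) = KZero.clSub P (kernel (f 0)) + KZero.clSub P (D 0) :=
      Resolution28.clSub_rel hS (hP' 0) (hP 1) (hP 0)
    have hih := ih D' f' w' hex' h0' hP' hz'
    rw [Finset.sum_range_succ' _ N] at hih
    rw [Finset.sum_range_succ' _ (N + 1), Finset.sum_range_succ' _ N, zero_add, pow_one, h1]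
    simp only [D', pow_zero, one_smul] at hih
    simp only [pow_zero, one_smul, pow_succ, mul_neg_one, neg_mul, neg_neg, mul_one, neg_smul,
      Finset.sum_neg_distrib, add_assoc, Nat.reduceAdd] at hih ⊢
    linear_combination (norm := module) -hih

end Alt

variable {k : Type u} [Field k] {r : ℕ}

local notation "ℙ" => CohB1.ProjSpace r k
local notation "S'" => GrSyz.stdGr k (Fin (r + 1))

/-- The class of a coherent sheaf on projective space. -/
abbrev cl (F : (ℙ).Modules) : KZero.K0sub (fun M : (ℙ).Modules => Coh.IsCoh M) :=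
  KZero.clSub (fun M : (ℙ).Modules => Coh.IsCoh M) F

instance isLocallyNoetherian_projSpace : IsLocallyNoetherian ℙ :=
  haveI := isProper_projSpace_toSpec r k
  LocallyOfFiniteType.isLocallyNoetherian (CohB1.ProjSpace.toSpec r k)

instance isNoetherian_projSpace : AlgebraicGeometry.IsNoetherian ℙ :=
  haveI : IsProper ((ℙ) ↘ Spec (CommRingCat.of k)) := isProper_projSpace_toSpec r k
  EulerLib.isNoetherian_of_proper (X := ℙ) k

instance closedIso : ObjectProperty.IsClosedUnderIsomorphisms (fun M : (ℙ).Modules => Coh.IsCoh M) :=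
  ⟨fun e h => isCoh_of_iso e h⟩

instance containsZero : ObjectProperty.ContainsZero (fun M : (ℙ).Modules => Coh.IsCoh M) := by
  obtain ⟨Z, hZ⟩ := HasZeroObject.zero (C := (ℙ).Modules)
  exact ⟨⟨Z, hZ, isCoh_of_isZero hZ⟩⟩

theorem isCoh_twistObj (t : ℤ) : Coh.IsCoh (Twist.twistProjSpace r k t) := by
  obtain ⟨e⟩ := SplitP.nonempty_tw_twist (K := k) (d := r) (zero_add t)
  obtain ⟨z⟩ := TwistLib.nonempty_twist_zero_iso (𝒜 := CohB1.polyGrading r k)
  exact isCoh_of_iso e (SplitP.isCoh_tw (isCoh_of_iso z.symm (Coherent.isCoh_structureModule ℙ)) t)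

section T

variable {M τ : Type u} [AddCommGroup M] [Module (MvPolynomial (Fin (r + 1)) k) M] [SetLike τ M]
  [AddSubgroupClass τ M] {ℳ : ℤ → τ} [DirectSum.Decomposition ℳ] [SetLike.GradedSMul (GrSyz.stdGr k (Fin (r + 1))) ℳ]
variable {N τ' : Type u} [AddCommGroup N] [Module (MvPolynomial (Fin (r + 1)) k) N] [SetLike τ' N]
  [AddSubgroupClass τ' N] {𝒩 : ℤ → τ'} [DirectSum.Decomposition 𝒩] [SetLike.GradedSMul (GrSyz.stdGr k (Fin (r + 1))) 𝒩]

theorem isZero_T [Subsingleton M] (n : ℤ) : IsZero (T k r ℳ n) := by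
  rw [IsZero.iff_id_eq_zero]
  refine Scheme.Modules.hom_ext _ _ fun U => ?_
  ext s
  exact (sect_eq_zero_of_subsingleton _).trans (sect_eq_zero_of_subsingleton _).symm

theorem T_prod (n : ℤ) :
    letI := prodDecomp ℳ 𝒩
    (Coh.IsCoh (T k r ℳ n) → Coh.IsCoh (T k r 𝒩 n) → Coh.IsCoh (T k r (prodGr ℳ 𝒩) n) ∧
      cl (T k r (prodGr ℳ 𝒩) n) = cl (T k r ℳ n) + cl (T k r 𝒩 n)) := by
  letI := prodDecomp ℳ 𝒩
  intro h1 h2
  have hS := shortExact_Tmap (ℳ := ℳ) (𝒩 := prodGr ℳ 𝒩) (ℒ := 𝒩) _ (PKoszul.inl_grHom (k := k) (r := r)) _ (PKoszul.snd_grHom (k := k) (r := r))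
    LinearMap.inl_injective LinearMap.snd_surjective Function.Exact.inl_snd n
  have h := isCoh_X₂ hS h1 h2
  exact ⟨h, Resolution28.clSub_rel hS h1 h h2⟩

end T

theorem T_free : ∀ {m : ℕ} (g : Fin m → ℤ) [DirectSum.Decomposition (freeGr S' g)] (n : ℤ),
    Coh.IsCoh (T k r (freeGr S' g) n) ∧
      cl (T k r (freeGr S' g) n) = ∑ j, cl (Twist.twistProjSpace r k (n - g j)) := by
  intro m
  induction m with
  | zero =>
    intro g _ n
    have hz : IsZero (T k r (freeGr S' g) n) := isZero_T n
    exact ⟨isCoh_of_isZero hz, by rw [cl, KZeroLib.clSub_isZero hz]; simp⟩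
  | succ m ih =>
    intro g _ n
    refine free_succ (k := k) (r := r) g fun d1 d2 u v hu hv hinj hsurj hex => ?_
    obtain ⟨h2, h2'⟩ := ih (fun j => g j.succ) n
    obtain ⟨e⟩ := nonempty_iso_shift (k := k) (r := r) (ℳ := S') (ℳ₂ := shiftGr S' (-g 0)) (-g 0)
      (fun i p => GrLib.mem_shiftGr) n
    let e' := e ≪≫ ringIso k r (n + -g 0)
    have h1 : Coh.IsCoh (T k r (shiftGr S' (-g 0)) n) := isCoh_of_iso e'.symm (isCoh_twistObj _)
    have hS := shortExact_Tmap u hu v hv hinj hsurj hex n
    have h := isCoh_X₂ hS h1 h2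
    refine ⟨h, ?_⟩
    rw [Fin.sum_univ_succ, ← h2', cl, Resolution28.clSub_rel hS h1 h h2, KZeroLib.clSub_iso e'.symm,
      sub_eq_add_neg]

theorem exists_koszul : ∀ (L : List (MvPolynomial (Fin (r + 1)) k)), (∀ y ∈ L, y ∈ S' (1 : ℤ)) →
    ∃ C : GCx S', (∀ y ∈ L, C.Kills y) ∧ (∀ p, L.length < p → Subsingleton (C.X p).carrier) ∧
      ∀ (p : ℕ) (n : ℤ), Coh.IsCoh (T k r (C.X p).gr n) ∧
        cl (T k r (C.X p).gr n) = (L.length.choose p : ℤ) • cl (Twist.twistProjSpace r k (n - (p : ℕ))) := by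
  intro L
  induction L with
  | nil =>
    intro _
    refine ⟨GCx.single S' S', by simp, fun p hp => ?_, fun p n => ?_⟩
    · cases p with
      | zero => simp at hp
      | succ p => exact inferInstanceAs (Subsingleton (⊥ : Submodule (MvPolynomial (Fin (r + 1)) k) (MvPolynomial (Fin (r + 1)) k)))
    · cases p with
      | zero =>
        letI := shiftDecomp S' 0
        obtain ⟨e⟩ := nonempty_iso_shift (k := k) (r := r) (ℳ := S') (ℳ₂ := shiftGr S' 0) 0
          (fun i p => GrLib.mem_shiftGr) n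
        let e' := e ≪≫ ringIso k r (n + 0)
        refine ⟨isCoh_of_iso e'.symm (isCoh_twistObj _), ?_⟩
        show cl (T k r (shiftGr S' 0) n) = _
        rw [cl, KZeroLib.clSub_iso e'.symm]
        simp
      | succ p =>
        haveI : Subsingleton ((GCx.single S' S').X (p + 1)).carrier :=
          inferInstanceAs (Subsingleton (⊥ : Submodule (MvPolynomial (Fin (r + 1)) k) (MvPolynomial (Fin (r + 1)) k)))
        have hz : IsZero (T k r ((GCx.single S' S').X (p + 1)).gr n) := isZero_T n
        exact ⟨isCoh_of_isZero hz, by rw [cl, KZeroLib.clSub_isZero hz]; simp⟩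
  | cons y L ih =>
    intro hL
    obtain ⟨C, hk, hsub, hc⟩ := ih fun w hw => hL w (List.mem_cons_of_mem y hw)
    have hy := hL y List.mem_cons_self
    refine ⟨C.cone hy, fun w hw => ?_, fun p hp => ?_, fun p n => ?_⟩
    · rcases List.mem_cons.1 hw with rfl | hw
      · exact C.kills_cone_self hy
      · exact GCx.kills_cone C hy (hk w hw)
    · cases p with
      | zero => simp at hp
      | succ p =>
        haveI := hsub (p + 1) (by simp only [List.length_cons] at hp; omega)
        haveI := hsub p (by simp only [List.length_cons] at hp; omega)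
        exact inferInstanceAs (Subsingleton ((C.X (p + 1)).carrier × (C.X p).carrier))
    · cases p with
      | zero =>
        obtain ⟨a, b⟩ := hc 0 n
        refine ⟨a, b.trans ?_⟩
        simp
      | succ p =>
        letI := shiftDecomp (C.X p).gr (-1)
        letI := prodDecomp (C.X (p + 1)).gr (shiftGr (C.X p).gr (-1))
        obtain ⟨e⟩ := nonempty_iso_shift (k := k) (r := r) (ℳ := (C.X p).gr)
          (ℳ₂ := shiftGr (C.X p).gr (-1)) (-1) (fun i q => GrLib.mem_shiftGr) n
        obtain ⟨a, b⟩ := hc (p + 1) n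
        obtain ⟨a', b'⟩ := hc p (n + -1)
        have a'' : Coh.IsCoh (T k r (shiftGr (C.X p).gr (-1)) n) := isCoh_of_iso e.symm a'
        obtain ⟨h, h'⟩ := T_prod (ℳ := (C.X (p + 1)).gr) (𝒩 := shiftGr (C.X p).gr (-1)) n a a''
        refine ⟨h, h'.trans ?_⟩
        rw [b, show cl (T k r (shiftGr (C.X p).gr (-1)) n) = cl (T k r (C.X p).gr (n + -1)) from
          KZeroLib.clSub_iso e.symm, b', show n + -1 - (p : ℕ) = n - ((p + 1 : ℕ) : ℤ) by push_cast; ring,
          ← add_smul, ← Nat.cast_add, List.length_cons, Nat.choose_succ_succ', add_comm (L.length.choose p)]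

theorem koszul_relation (n : ℤ) :
    ∑ p ∈ Finset.range (r + 2), ((-1 : ℤ) ^ p * ((r + 1).choose p : ℤ)) • cl (Twist.twistProjSpace r k (n - (p : ℕ))) = 0 := by
  obtain ⟨C, hk, hsub, hc⟩ := exists_koszul (k := k) (r := r) (List.ofFn fun l : Fin (r + 1) => X l)
    (fun y hy => by obtain ⟨l, rfl⟩ := List.mem_ofFn.1 hy; exact X_mem_stdGr k (r + 1) l)
  have hkill : ∀ l : Fin (r + 1), C.Kills (X l) := fun l => hk _ (List.mem_ofFn.2 ⟨l, rfl⟩)
  have h0 : Epi (Tmap (C.d 0) (C.grHom 0) n) := epi_Tmap _ _ (fun a l => (hkill l).1 a) n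
  have := sum_alt_eq_zero (P := fun M : (ℙ).Modules => Coh.IsCoh M)
    (fun g hU hV => isCoh_kernel g hU hV.1) (r + 1) (fun p => T k r (C.X p).gr n)
    (fun p => Tmap (C.d p) (C.grHom p) n) (PKoszul.cx_comp_eq_zero C n) (PKoszul.cx_exact C hkill n) h0
    (fun p => (hc p n).1) (fun p hp => by haveI := hsub p (by simpa using hp); exact isZero_T n)
  refine (Finset.sum_congr rfl fun p _ => ?_).trans this
  show _ = (-1 : ℤ) ^ p • cl (T k r (C.X p).gr n)
  rw [(hc p n).2, List.length_ofFn, smul_smul]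

/-- The subgroup generated by `O, O(-1), …, O(-r)`. -/
def low (k : Type u) [Field k] (r : ℕ) : AddSubgroup (KZero.K0sub (fun M : (CohB1.ProjSpace r k).Modules => Coh.IsCoh M)) :=
  AddSubgroup.closure (Set.range fun i : Fin (r + 1) => cl (Twist.twistProjSpace r k (-((i : ℕ) : ℤ))))

theorem cl_twist_mem (n : ℤ) : cl (Twist.twistProjSpace r k n) ∈ low k r := by
  let W : ℤ → Prop := fun m => ∀ p : ℕ, p ≤ r → cl (Twist.twistProjSpace r k (m - (p : ℤ))) ∈ low k r
  suffices h : W n by simpa using h 0 (Nat.zero_le r)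
  induction n using Int.induction_on with
  | zero =>
    intro p hp
    exact AddSubgroup.subset_closure ⟨⟨p, by omega⟩, by simp⟩
  | succ i ih =>
    intro p hp
    cases p with
    | succ p => convert ih p (by omega) using 3; push_cast; ring
    | zero =>
      have h := koszul_relation (k := k) (r := r) ((i : ℤ) + 1)
      rw [Finset.sum_range_succ' _ (r + 1)] at h
      simp only [pow_zero, Nat.choose_zero_right, Nat.cast_one, mul_one, one_smul] at h
      rw [eq_neg_of_add_eq_zero_right h]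
      refine neg_mem (sum_mem fun q hq => zsmul_mem ?_ _)
      convert ih q (by simp at hq; omega) using 3
      push_cast; ring
  | pred i ih =>
    intro p hp
    by_cases hpr : p = r
    · subst hpr
      have h := koszul_relation (k := k) (r := p) (-(i : ℤ))
      rw [Finset.sum_range_succ, Nat.choose_self, Nat.cast_one, mul_one] at h
      have h1 : ((-1 : ℤ) ^ (p + 1)) • cl (Twist.twistProjSpace p k (-(i : ℤ) - ((p + 1 : ℕ) : ℤ))) ∈ low k p := by
        rw [eq_neg_of_add_eq_zero_right h]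
        exact neg_mem (sum_mem fun q hq => zsmul_mem (ih q (by simp at hq; omega)) _)
      have h2 := zsmul_mem h1 ((-1 : ℤ) ^ (p + 1))
      rw [smul_smul, ← mul_pow, neg_one_mul, neg_neg, one_pow, one_smul] at h2
      convert h2 using 3
      push_cast; ring
    · convert ih (p + 1) (by omega) using 3
      push_cast; ring

theorem hasLength_of_minimal {M τ : Type u} [AddCommGroup M] [Module (MvPolynomial (Fin (r + 1)) k) M] [SetLike τ M]
    [AddSubgroupClass τ M] {ℳ : ℤ → τ} [DirectSum.Decomposition ℳ] [SetLike.GradedSMul (GrSyz.stdGr k (Fin (r + 1))) ℳ]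
    (R : GrSyz.FreeRes S' ℳ) (hR : R.IsMinimal (GrSyz.irrel S').toIdeal) : R.HasLengthLE (r + 1) := by
  letI : Module k M := Module.compHom M (algebraMap k (MvPolynomial (Fin (r + 1)) k))
  haveI : IsScalarTower k (MvPolynomial (Fin (r + 1)) k) M := IsScalarTower.of_algebraMap_smul fun _ _ => rfl
  exact (GrMinimal.hasLengthLE_iff R (GrLib.irrel_ne_top k (r + 1)) hR (r + 1)).2
    (PdPolynomial.pdLE_mvPolynomial k (r + 1) M)

attribute [local instance] freeDecomp

theorem cl_mem {F : (ℙ).Modules} (hF : Coh.IsCoh F) : cl F ∈ low k r := by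
  obtain ⟨m, hm⟩ := PSheafBound.nonempty_finite_model F hF
  obtain ⟨R, hR⟩ := GrLib.exists_minimal (m := r + 1) m.gr
  have hlen := hasLength_of_minimal R hR
  have hP : ∀ p, Coh.IsCoh (PRes.D R 0 p) := fun p => match p with
    | 0 => isCoh_of_iso m.iso.symm hF
    | q + 1 => (T_free (R.deg q) 0).1
  have hz : ∀ p, r + 2 < p → IsZero (PRes.D R 0 p) := fun p hp => match p, hp with
    | q + 1, hp => by
      have : IsEmpty (Fin (R.rk q)) := by rw [hlen q (by omega)]; infer_instance
      exact isZero_T 0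
  have h := sum_alt_eq_zero (P := fun M : (ℙ).Modules => Coh.IsCoh M)
    (fun g hU hV => isCoh_kernel g hU hV.1) (r + 2) (PRes.D R 0) (PRes.f R 0) (PRes.w R 0) (PRes.exact R 0)
    (PRes.epi R 0) hP hz
  rw [Finset.sum_range_succ' _ (r + 2), pow_zero, one_smul] at h
  rw [show cl F = cl (T k r m.gr 0) from KZeroLib.clSub_iso m.iso, show cl (T k r m.gr 0) = cl (PRes.D R 0 0) from rfl,
    cl, eq_neg_of_add_eq_zero_right h]
  refine neg_mem (sum_mem fun q _ => zsmul_mem ?_ _)
  show cl (T k r (freeGr S' (R.deg q)) 0) ∈ _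
  rw [(T_free (R.deg q) 0).2]
  exact sum_mem fun j _ => cl_twist_mem _

theorem low_eq_top : low k r = ⊤ := by
  rw [eq_top_iff]
  intro x _
  induction x using QuotientAddGroup.induction_on with
  | _ z =>
    induction z using FreeAbelianGroup.induction_on with
    | zero => exact zero_mem _
    | of x =>
      obtain ⟨F, hF⟩ := x
      have := cl_mem (k := k) (r := r) hF
      rw [cl, KZero.clSub, dif_pos hF] at this
      exact this
    | neg x hx => exact neg_mem (hx trivial)
    | add x y hx hy => exact add_mem (hx trivial) (hy trivial)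

theorem exists_eulerTwist (m : ℤ) :
    ∃ φ : KZero.K0sub (fun M : (ℙ).Modules => Coh.IsCoh M) →+ ℤ,
      ∀ F, Coh.IsCoh F → φ (cl F) = Curv2.euler k ℙ (SplitP.tw F m) := by
  haveI : IsProper ((ℙ) ↘ Spec (CommRingCat.of k)) := isProper_projSpace_toSpec r k
  refine ⟨QuotientAddGroup.lift _ (FreeAbelianGroup.lift fun Z : Subtype (fun M : (ℙ).Modules => Coh.IsCoh M) =>
    Curv2.euler k ℙ (SplitP.tw Z.1 m)) ?_, fun F hF => ?_⟩
  · refine (AddSubgroup.closure_le _).2 ?_
    rintro _ ⟨S, h1, h2, h3, hS, rfl⟩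
    show FreeAbelianGroup.lift _ (_ - _ - _) = 0
    rw [map_sub, map_sub, FreeAbelianGroup.lift_apply_of, FreeAbelianGroup.lift_apply_of,
      FreeAbelianGroup.lift_apply_of]
    have := euler_additive k ℙ _ (twistSeq_shortExact (SerreDual.isInvertible_twist r k m) hS)
      (SplitP.isCoh_tw h1 m) (SplitP.isCoh_tw h2 m) (SplitP.isCoh_tw h3 m)
    exact sub_eq_zero.2 (sub_eq_iff_eq_add'.2 this)
  · rw [cl, KZero.clSub, dif_pos hF]
    exact FreeAbelianGroup.lift_apply_of _ _

theorem euler_twist_neg {t : ℤ} (h1 : t < 0) (h2 : -(r : ℤ) ≤ t) :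
    Curv2.euler k ℙ (Twist.twistProjSpace r k t) = 0 := by
  refine finsum_eq_zero_of_forall_eq_zero fun q => ?_
  haveI := subsingleton_HH_twist (n := r) (R := k) (d := t) q (by omega) (by omega)
  simp [Module.finrank_zero_of_subsingleton]

theorem euler_twist_zero : Curv2.euler k ℙ (Twist.twistProjSpace r k 0) = 1 := by
  rw [euler_eq_sum k ℙ _ 0 fun q hq => subsingleton_HH_twist (n := r) (R := k) (d := 0) q (by omega) (by omega)]
  obtain ⟨e⟩ := nonempty_HH_zero_twist (n := r) (R := k) 0
  rw [Finset.sum_range_one, pow_zero, one_mul, show ((0 : ℤ)) = ((0 : ℕ) : ℤ) from rfl, e.finrank_eq,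
    MvPolynomial.homogeneousSubmodule_zero]
  rw [Submodule.one_eq_range, LinearMap.finrank_range_of_inj]
  · simp
  · intro a b hab
    simpa using hab

theorem bijective : Function.Bijective (fun a : Fin (r + 1) → ℤ =>
    ∑ i : Fin (r + 1), a i • cl (Twist.twistProjSpace r k (-((i : ℕ) : ℤ)))) := by
  constructor
  · intro a b hab
    simp only at hab
    have hc : ∑ i : Fin (r + 1), (a i - b i) • cl (Twist.twistProjSpace r k (-((i : ℕ) : ℤ))) = 0 := by
      simp only [sub_smul, Finset.sum_sub_distrib, hab, sub_self]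
    suffices h : ∀ (m : ℕ) (hm : m < r + 1), a ⟨m, hm⟩ - b ⟨m, hm⟩ = 0 from
      funext fun i => sub_eq_zero.1 (h i.1 i.2)
    intro m
    induction m using Nat.strong_induction_on with
    | _ m ih =>
    intro hm
    obtain ⟨φ, hφ⟩ := exists_eulerTwist (k := k) (r := r) (m : ℤ)
    have h := congrArg φ hc
    rw [map_zero, map_sum, Finset.sum_eq_single (⟨m, hm⟩ : Fin (r + 1)), map_zsmul, hφ _ (isCoh_twistObj _),
      smul_eq_mul] at h
    · obtain ⟨e⟩ := SplitP.nonempty_tw_twist (K := k) (d := r) (show -(m : ℤ) + m = 0 by ring)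
      rwa [euler_congr k ℙ e, euler_twist_zero, mul_one] at h
    · intro i _ hi
      rw [map_zsmul, hφ _ (isCoh_twistObj _)]
      rcases Nat.lt_or_ge i.1 m with hlt | hge
      · have := ih i.1 hlt i.2
        rw [show (⟨i.1, i.2⟩ : Fin (r + 1)) = i from rfl] at this
        rw [this, zero_smul]
      · have hne : i.1 ≠ m := fun h => hi (Fin.ext h)
        obtain ⟨e⟩ := SplitP.nonempty_tw_twist (K := k) (d := r) (show -(i.1 : ℤ) + m = (m : ℤ) - i.1 by ring)
        have := i.2
        rw [euler_congr k ℙ e, euler_twist_neg (by omega) (by omega), smul_zero]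
    · simp
  · intro x
    have hx : x ∈ low k r := by rw [low_eq_top]; trivial
    obtain ⟨a, ha⟩ := (AddSubgroup.mem_closure_range_iff_of_fintype).1 hx
    exact ⟨a, ha.symm⟩

end Groth.Agent.KPn28
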